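import Groth.Agent.L29.DCoh.Gen.Support
import Groth.Agent.L29.DCoh.ProjFormulaD
import Groth.Agent.L04.SupportSh.Modules
import Groth.Prelude.Def_CxOX
import Mathlib.Algebra.Homology.DerivedCategory.ShortExact

/-!
Sections with support on unbounded complexes: K-injective computation and the triangle.
-/

set_option autoImplicit false
set_option backward.defeqAttrib.useBackward true
set_option backward.isDefEq.respectTransparency false
set_option backward.isDefEq.respectTransparency.types false

universe u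

open CategoryTheory CategoryTheory.Limits CategoryTheory.Pretriangulated AlgebraicGeometry

attribute [local instance] HasDerivedCategory.standard

namespace Groth.L10.GammaZ

open Groth.L00 Groth.L29.DC

variable {X U : Scheme.{u}} (j : U ⟶ X) [IsOpenImmersion j]

/-- every object is computed by a K-injective complex of injectives -/
theorem exists_res (K : DCoh.D X) : ∃ I : CochainComplex X.Modules ℤ, I.IsKInjective ∧
    (∀ n, Injective (I.X n)) ∧ Nonempty (K ≅ DerivedCategory.Q.obj I) := by
  haveI := Groth.L00.Tensor.grothendieckAbelian_modules X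
  let G := DerivedCategory.Q.objPreimage K
  haveI : IsIso (DerivedCategory.Q.map (Groth.L10.KInjRes.resι G)) :=
    (DerivedCategory.isIso_Q_map_iff_quasiIso _ _).2 inferInstance
  exact ⟨_, inferInstance, inferInstance,
    ⟨(DerivedCategory.Q.objObjPreimageIso K).symm ≪≫ asIso (DerivedCategory.Q.map (Groth.L10.KInjRes.resι G))⟩⟩

/-- sections with support, on complexes -/
noncomputable abbrev gCx : CochainComplex X.Modules ℤ ⥤ CochainComplex X.Modules ℤ :=
  (DCoh.gammaZ j).mapHomologicalComplex (ComplexShape.up ℤ)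

/-- the inclusion on complexes -/
noncomputable def ιCx (I : CochainComplex X.Modules ℤ) : (gCx j).obj I ⟶ I where
  f n := (CxOX.gammaZι j).app (I.X n)
  comm' m n _ := ((CxOX.gammaZι j).naturality (I.d m n)).symm

theorem exists_iso [CxOX.HasRgammaZ j] (I : CochainComplex X.Modules ℤ) [I.IsKInjective] :
    ∃ a : DerivedCategory.Q.obj ((gCx j).obj I) ≅ (CxOX.RgammaZ j).obj (DerivedCategory.Q.obj I),
      a.hom ≫ (CxOX.RgammaZToId j).app _ = DerivedCategory.Q.map (ιCx j I) := by
  haveI := QRlim.enoughKInj X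
  let q := HomotopyCategory.quotient X.Modules (ComplexShape.up ℤ)
  let e := DerivedCategory.quotientCompQhIso X.Modules
  let η := (CxOX.gammaZKh j).totalRightDerivedUnit DerivedCategory.Qh
    (HomotopyCategory.quasiIso X.Modules (ComplexShape.up ℤ))
  haveI : IsIso (η.app (q.obj I)) := Groth.L10.KInjDerived.isIso_app_quotient (RF := CxOX.RgammaZ j) η I
  refine ⟨(e.app ((gCx j).obj I)).symm ≪≫
    DerivedCategory.Qh.mapIso (((DCoh.gammaZ j).mapHomotopyCategoryFactors _).symm.app I) ≪≫
    asIso (η.app (q.obj I)) ≪≫ (CxOX.RgammaZ j).mapIso (e.app I), ?_⟩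
  have h1 : η.app (q.obj I) ≫ (CxOX.RgammaZToId j).app (DerivedCategory.Qh.obj (q.obj I)) =
      (CxOX.gammaZKhι j).app (q.obj I) := by
    refine (Functor.rightDerived_fac_app _ _ _ _ _ _).trans ?_
    simp
  have h2 : (CxOX.gammaZKhι j).app (q.obj I) =
      DerivedCategory.Qh.map (((DCoh.gammaZ j).mapHomotopyCategoryFactors _).hom.app I) ≫
        DerivedCategory.Qh.map (q.map (ιCx j I)) := by
    simp only [q, CxOX.gammaZKhι]
    erw [Quotient.natTransLift_app]
    simp only [NatTrans.comp_app, Functor.associator_inv_app, Functor.associator_hom_app,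
      Functor.whiskerRight_app, Functor.leftUnitor_hom_app, Category.id_comp, Category.comp_id]
    refine congrArg (fun t => _ ≫ t) ?_
    refine (congrArg (fun t => _ ≫ t) (Category.comp_id _)).trans ?_
    rw [← Functor.map_comp, Functor.comp_map]
    refine congrArg (fun t => DerivedCategory.Qh.map (q.map t)) ?_
    ext n
    simp [ιCx]
  simp only [Iso.trans_hom, Functor.mapIso_hom, asIso_hom, Category.assoc]
  erw [(CxOX.RgammaZToId j).naturality (e.hom.app I), reassoc_of% h1, h2]
  simp [e]
  erw [DerivedCategory.quotientCompQhIso_hom_naturality]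
  exact Category.id_comp _

/-- `I ⟶ j_* j^* I` on complexes -/
noncomputable def unitCx (I : CochainComplex X.Modules ℤ) : I ⟶
    ((Scheme.Modules.pushforward j).mapHomologicalComplex (ComplexShape.up ℤ)).obj
      (((Scheme.Modules.restrictFunctor j).mapHomologicalComplex (ComplexShape.up ℤ)).obj I) where
  f n := (Scheme.Modules.restrictAdjunction j).unit.app (I.X n)
  comm' m n _ := ((Scheme.Modules.restrictAdjunction j).unit.naturality (I.d m n)).symm

/-- the short complex of sections with support -/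
noncomputable def sc (I : CochainComplex X.Modules ℤ) : ShortComplex (CochainComplex X.Modules ℤ) :=
  ShortComplex.mk (ιCx j I) (unitCx j I) (HomologicalComplex.hom_ext _ _ fun n => kernel.condition ((Scheme.Modules.restrictAdjunction j).unit.app (I.X n)))

theorem shortExact (I : CochainComplex X.Modules ℤ) (h : ∀ n, Injective (I.X n)) : (sc j I).ShortExact :=
  HomologicalComplex.shortExact_of_degreewise_shortExact _ fun n =>
    Groth.L04.SupportSh.shortExact_of_injective j (I.X n) (h n)

/-- the triangle `RΓ_Z K ⟶ K ⟶ Rj_* (K|_U)` -/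
theorem exists_triangle [CxOX.HasRgammaZ j] [DCoh.HasRpush j] (K : DCoh.D X) :
    ∃ (b : K ⟶ (DCoh.Rpush j).obj ((DCoh.restrictD j).obj K))
      (c : (DCoh.Rpush j).obj ((DCoh.restrictD j).obj K) ⟶ ((CxOX.RgammaZ j).obj K)⟦(1 : ℤ)⟧),
      Triangle.mk ((CxOX.RgammaZToId j).app K) b c ∈ distTriang _ := by
  obtain ⟨I, hI, hinj, ⟨e⟩⟩ := exists_res K
  obtain ⟨a, ha⟩ := exists_iso j I
  haveI := RpushRes.isKInjective_res j I
  obtain ⟨p⟩ := ProjFormulaD.nonempty_Rpush_kinj j
    (((Scheme.Modules.restrictFunctor j).mapHomologicalComplex (ComplexShape.up ℤ)).obj I)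
  let e₁ : (CxOX.RgammaZ j).obj K ≅ DerivedCategory.Q.obj ((gCx j).obj I) :=
    (CxOX.RgammaZ j).mapIso e ≪≫ a.symm
  let e₃ : (DCoh.Rpush j).obj ((DCoh.restrictD j).obj K) ≅ DerivedCategory.Q.obj (sc j I).X₃ :=
    (DCoh.Rpush j).mapIso ((DCoh.restrictD j).mapIso e ≪≫
      (Scheme.Modules.restrictFunctor j).mapDerivedCategoryFactors.app I) ≪≫ p
  let T := DerivedCategory.triangleOfSES (shortExact j I hinj)
  refine ⟨e.hom ≫ T.mor₂ ≫ e₃.inv, e₃.hom ≫ T.mor₃ ≫ e₁.inv⟦(1 : ℤ)⟧', ?_⟩
  refine isomorphic_distinguished _ (DerivedCategory.triangleOfSES_distinguished (shortExact j I hinj)) _ ?_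
  refine Triangle.isoMk _ _ e₁ e e₃ ?_ ?_ ?_
  · have h := (CxOX.RgammaZToId j).naturality e.hom
    have h' : a.inv ≫ DerivedCategory.Q.map (ιCx j I) = (CxOX.RgammaZToId j).app (DerivedCategory.Q.obj I) :=
      (Iso.inv_comp_eq a).2 ha.symm
    change (CxOX.RgammaZToId j).app K ≫ e.hom = ((CxOX.RgammaZ j).map e.hom ≫ a.inv) ≫ _
    rw [Category.assoc]
    exact h.symm.trans (congrArg (fun t => (CxOX.RgammaZ j).map e.hom ≫ t) h'.symm)
  · simp [T]
  · simp [T, ← Functor.map_comp]

end Groth.L10.GammaZ
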