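import Groth.Agent.L10.GammaZ.Push
import Groth.Agent.L29.BC.Global
import Groth.Agent.L29.BC.Instances

/-!
Flat pullback and sections with support.
-/

set_option autoImplicit false
set_option backward.defeqAttrib.useBackward true
set_option backward.isDefEq.respectTransparency false
set_option backward.isDefEq.respectTransparency.types false

universe u

open CategoryTheory CategoryTheory.Limits CategoryTheory.Pretriangulated AlgebraicGeometry

attribute [local instance] HasDerivedCategory.standard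

namespace Groth.L10.GammaZ

open Groth.L00 Groth.L29.DC

variable {X Y : Scheme.{u}}

/-- coreflection from a triangle with local third term -/
theorem bijective_of_triangle (U : Y.Opens) [DCoh.HasRpush U.ι] (T : Triangle (DCoh.D Y)) (hT : T ∈ distTriang _)
    {N : DCoh.D (U : Scheme.{u})} (e : T.obj₃ ≅ (DCoh.Rpush U.ι).obj N) {A : DCoh.D Y}
    (hA : IsZero ((DCoh.restrictD U.ι).obj A)) :
    Function.Bijective fun φ : A ⟶ T.obj₁ => φ ≫ T.mor₁ := by
  refine ⟨fun φ φ' h => sub_eq_zero.1 ?_, fun g => ?_⟩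
  · obtain ⟨γ, hγ⟩ := Triangle.coyoneda_exact₂ _ (inv_rot_of_distTriang _ hT) (φ - φ') (by
      change (φ - φ') ≫ T.mor₁ = 0
      rw [Preadditive.sub_comp, sub_eq_zero]
      exact h)
    have hγ0 : γ = 0 := (cancel_mono ((shiftFunctor (DCoh.D Y) (-1 : ℤ)).map e.hom)).1
      ((hom_push_shift_eq_zero U.ι hA _).trans zero_comp.symm)
    rw [hγ, hγ0]
    exact zero_comp
  · obtain ⟨φ, hφ⟩ := Triangle.coyoneda_exact₂ _ hT g
      ((cancel_mono e.hom).1 ((hom_push_eq_zero U.ι hA _).trans zero_comp.symm))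
    exact ⟨φ, hφ.symm⟩

variable (f : X ⟶ Y) [DCoh.HasLpull f] (U : Y.Opens)

/-- pullback preserves vanishing on an open -/
theorem isZero_restrict_Lpull {A : DCoh.D Y} (hA : IsZero ((DCoh.restrictD U.ι).obj A)) :
    IsZero ((DCoh.restrictD (f ⁻¹ᵁ U).ι).obj ((DCoh.Lpull f).obj A)) := by
  haveI := RpushQC.hasRpush f
  haveI := RpushQC.hasRpush U.ι
  haveI := RpushQC.hasRpush (f ⁻¹ᵁ U).ι
  let a := Cpt.restrictRpushAdj (f ⁻¹ᵁ U).ι
  have h0 : ∀ {M : DCoh.D (f ⁻¹ᵁ U : Scheme.{u})} (φ : (DCoh.Lpull f).obj A ⟶ (DCoh.Rpush (f ⁻¹ᵁ U).ι).obj M), φ = 0 := by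
    intro M φ
    obtain ⟨N, ⟨e⟩⟩ := exists_push_iso f U M
    refine ((Groth.L29.BC.adj f).homEquiv _ _).injective ?_
    refine ((cancel_mono e.hom).1 ((hom_push_eq_zero U.ι hA _).trans zero_comp.symm)).trans ?_
    exact ((cancel_mono e.hom).1 ((hom_push_eq_zero U.ι hA _).trans zero_comp.symm)).symm
  rw [IsZero.iff_id_eq_zero]
  exact (a.homEquiv _ _).injective ((h0 _).trans (h0 _).symm)

/-- flat pullback of sections with support has the universal property of sections with support -/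
theorem bijective_Lpull [Flat f] [QuasiCompact U.ι] [CxOX.HasRgammaZ U.ι] (K : DCoh.D Y) (hK : DCoh.IsQCohD K)
    [DCoh.HasRpush (f ⁻¹ᵁ U).ι] {B : DCoh.D X} (hB : IsZero ((DCoh.restrictD (f ⁻¹ᵁ U).ι).obj B)) :
    Function.Bijective fun φ : B ⟶ (DCoh.Lpull f).obj ((CxOX.RgammaZ U.ι).obj K) =>
      φ ≫ (DCoh.Lpull f).map ((CxOX.RgammaZToId U.ι).app K) := by
  haveI := RpushQC.hasRpush f
  haveI := RpushQC.hasRpush (f ∣_ U)
  haveI := RpushQC.hasRpush U.ι
  haveI := KFlat.hasLpull (f ∣_ U)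
  obtain ⟨b, c, hT⟩ := exists_triangle U.ι K
  letI := Groth.L29.BC.commShiftLpull f
  haveI := Groth.L29.BC.isTriangulated_Lpull f
  haveI := Groth.L29.BC.BC_flat (isPullback_morphismRestrict f U) ((DCoh.restrictD U.ι).obj K)
    (isQCohD_restrictD U.ι hK)
  exact bijective_of_triangle (f ⁻¹ᵁ U) _ ((DCoh.Lpull f).map_distinguished _ hT)
    (asIso (Groth.L29.BC.β (isPullback_morphismRestrict f U).w ((DCoh.restrictD U.ι).obj K))) hB

end Groth.L10.GammaZ
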