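import Groth.Agent.L10.GammaZ.Orth

/-!
Triangles with local third term.
-/

set_option autoImplicit false
set_option backward.defeqAttrib.useBackward true
set_option backward.isDefEq.respectTransparency false
set_option backward.isDefEq.respectTransparency.types false

universe u

open CategoryTheory CategoryTheory.Limits CategoryTheory.Pretriangulated AlgebraicGeometry

attribute [local instance] HasDerivedCategory.standard

namespace Groth.L10.GammaZ

variable {X U : Scheme.{u}} (j : U ⟶ X) [IsOpenImmersion j] [DCoh.HasRpush j]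

/-- coreflection from a triangle with local third term -/
theorem bijective_of_iso (T : Triangle (DCoh.D X)) (hT : T ∈ distTriang _)
    {N : DCoh.D U} (e : T.obj₃ ≅ (DCoh.Rpush j).obj N) {A : DCoh.D X}
    (hA : IsZero ((DCoh.restrictD j).obj A)) :
    Function.Bijective fun φ : A ⟶ T.obj₁ => φ ≫ T.mor₁ := by
  refine ⟨fun φ φ' h => sub_eq_zero.1 ?_, fun g => ?_⟩
  · obtain ⟨γ, hγ⟩ := Triangle.coyoneda_exact₂ _ (inv_rot_of_distTriang _ hT) (φ - φ') (by
      change (φ - φ') ≫ T.mor₁ = 0
      rw [Preadditive.sub_comp, sub_eq_zero]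
      exact h)
    have hγ0 : γ = 0 := (cancel_mono ((shiftFunctor (DCoh.D X) (-1 : ℤ)).map e.hom)).1
      ((hom_push_shift_eq_zero j hA _).trans zero_comp.symm)
    rw [hγ, hγ0]
    exact zero_comp
  · obtain ⟨φ, hφ⟩ := Triangle.coyoneda_exact₂ _ hT g
      ((cancel_mono e.hom).1 ((hom_push_eq_zero j hA _).trans zero_comp.symm))
    exact ⟨φ, hφ.symm⟩

end Groth.L10.GammaZ
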