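import Groth.Agent.L10.GammaZ.Orth

/-!
Direct image along an open immersion and supports.
-/

set_option autoImplicit false
set_option backward.defeqAttrib.useBackward true
set_option backward.isDefEq.respectTransparency false
set_option backward.isDefEq.respectTransparency.types false

universe u

open CategoryTheory CategoryTheory.Limits AlgebraicGeometry

attribute [local instance] HasDerivedCategory.standard

namespace Groth.L10.GammaZ

open Groth.L00 Groth.L29.DC

variable {X Y : Scheme.{u}} (j : X ⟶ Y) [IsOpenImmersion j] [DCoh.HasRpush j]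

theorem isIso_counit (adj : DCoh.restrictD j ⊣ DCoh.Rpush j) : IsIso adj.counit :=
  adj.isIso_counit_of_iso (asIso (Cpt.restrictRpushAdj j).counit)

theorem isIso_restrict_unit (adj : DCoh.restrictD j ⊣ DCoh.Rpush j) (G : DCoh.D Y) :
    IsIso ((DCoh.restrictD j).map (adj.unit.app G)) := by
  haveI := isIso_counit j adj
  exact IsIso.of_isIso_fac_right (hh := IsIso.id _) (adj.left_triangle_components G)

theorem isZero_restrict_push (W : Y.Opens) (F : DCoh.D X)
    (h : IsZero ((DCoh.restrictD (j ⁻¹ᵁ W).ι).obj F)) :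
    IsZero ((DCoh.restrictD W.ι).obj ((DCoh.Rpush j).obj F)) := by
  haveI := RpushQC.hasRpush (j ∣_ W)
  obtain ⟨e⟩ := RpushRes.nonempty_iso j W.ι (j ⁻¹ᵁ W).ι (j ∣_ W)
    (by rw [Scheme.Opens.opensRange_ι, Scheme.Opens.opensRange_ι]) (morphismRestrict_ι j W)
  haveI := (Cpt.restrictRpushAdj (j ∣_ W)).right_adjoint_additive
  exact ((DCoh.Rpush (j ∣_ W)).map_isZero h).of_iso (e.app F)

/-- a map between objects local on `T` is an isomorphism if it is one on an open covering of `T` -/
theorem isIso_of_isLoc {T : Y.Opens} {K L : DCoh.D Y} (hK : Gen.IsLoc T K) (hL : Gen.IsLoc T L) (g : K ⟶ L)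
    (h : IsIso ((Gen.res T).map g)) : IsIso g := by
  haveI : IsIso ((Gen.adj T).unit.app K) := hK
  haveI : IsIso ((Gen.adj T).unit.app L) := hL
  have hn : g ≫ (Gen.adj T).unit.app L = (Gen.adj T).unit.app K ≫ (Gen.push T).map ((Gen.res T).map g) :=
    (Gen.adj T).unit.naturality g
  haveI : IsIso (g ≫ (Gen.adj T).unit.app L) := hn ▸ inferInstance
  exact IsIso.of_isIso_comp_right g ((Gen.adj T).unit.app L)

end Groth.L10.GammaZ
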