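import Groth.Agent.L10.GammaZ.Basic

/-!
Sections with support as the coreflection onto objects vanishing on the open.
-/

set_option autoImplicit false
set_option backward.defeqAttrib.useBackward true
set_option backward.isDefEq.respectTransparency false
set_option backward.isDefEq.respectTransparency.types false

universe u

open CategoryTheory CategoryTheory.Limits CategoryTheory.Pretriangulated AlgebraicGeometry

attribute [local instance] HasDerivedCategory.standard

namespace Groth.L10.GammaZ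

open Groth.L00 Groth.L29.DC

variable {X U : Scheme.{u}} (j : U ⟶ X) [IsOpenImmersion j]

/-- restriction to the open kills sections with support -/
theorem isZero_restrict [CxOX.HasRgammaZ j] (K : DCoh.D X) :
    IsZero ((DCoh.restrictD j).obj ((CxOX.RgammaZ j).obj K)) := by
  obtain ⟨I, hI, -, ⟨e⟩⟩ := exists_res K
  obtain ⟨a, -⟩ := exists_iso j I
  refine IsZero.of_iso ?_ ((DCoh.restrictD j).mapIso ((CxOX.RgammaZ j).mapIso e ≪≫ a.symm) ≪≫
    (Scheme.Modules.restrictFunctor j).mapDerivedCategoryFactors.app _)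
  refine DerivedCategory.Q.map_isZero ?_
  rw [IsZero.iff_id_eq_zero]
  refine HomologicalComplex.hom_ext _ _ fun n => IsZero.eq_of_src ?_ _ _
  let η := (Scheme.Modules.restrictAdjunction j).unit.app (I.X n)
  have h := congrArg (fun t => (Scheme.Modules.restrictFunctor j).map t ≫
    (Scheme.Modules.restrictAdjunction j).counit.app _) (kernel.condition η)
  simp only [Functor.map_zero, zero_comp, Functor.map_comp, Category.assoc] at h
  rw [show (Scheme.Modules.restrictFunctor j).map η ≫ (Scheme.Modules.restrictAdjunction j).counit.app _ = 𝟙 _ from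
    (Scheme.Modules.restrictAdjunction j).left_triangle_components (I.X n), Category.comp_id] at h
  exact IsZero.of_mono_eq_zero _ h

variable [DCoh.HasRpush j]

theorem hom_push_eq_zero {A : DCoh.D X} (hA : IsZero ((DCoh.restrictD j).obj A)) {M : DCoh.D U}
    (f : A ⟶ (DCoh.Rpush j).obj M) : f = 0 :=
  ((Cpt.restrictRpushAdj j).homEquiv A M).symm.injective (hA.eq_of_src _ _)

theorem hom_push_shift_eq_zero {A : DCoh.D X} (hA : IsZero ((DCoh.restrictD j).obj A)) {M : DCoh.D U}
    (f : A ⟶ ((DCoh.Rpush j).obj M)⟦(-1 : ℤ)⟧) : f = 0 := by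
  apply (shiftFunctor (DCoh.D X) (1 : ℤ)).map_injective
  rw [Functor.map_zero, ← cancel_mono
    ((shiftFunctorCompIsoId (DCoh.D X) (-1 : ℤ) 1 (by omega)).hom.app ((DCoh.Rpush j).obj M)), zero_comp]
  exact hom_push_eq_zero j (((shiftFunctor (DCoh.D U) (1 : ℤ)).map_isZero hA).of_iso
    (((DCoh.restrictD j).commShiftIso (1 : ℤ)).app A)) _

variable [CxOX.HasRgammaZ j]

/-- objects vanishing on `U` map uniquely through sections with support -/
theorem bijective {A : DCoh.D X} (hA : IsZero ((DCoh.restrictD j).obj A)) (K : DCoh.D X) :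
    Function.Bijective fun φ : A ⟶ (CxOX.RgammaZ j).obj K => φ ≫ (CxOX.RgammaZToId j).app K := by
  obtain ⟨b, c, hT⟩ := exists_triangle j K
  refine ⟨fun φ φ' h => sub_eq_zero.1 ?_, fun g => ?_⟩
  · obtain ⟨γ, hγ⟩ := Triangle.coyoneda_exact₂ _ (inv_rot_of_distTriang _ hT) (φ - φ') (by
      change (φ - φ') ≫ (CxOX.RgammaZToId j).app K = 0
      rw [Preadditive.sub_comp, sub_eq_zero]
      exact h)
    rw [hγ]
    exact (congrArg (fun t => t ≫ _) (hom_push_shift_eq_zero j hA γ)).trans zero_comp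
  · obtain ⟨φ, hφ⟩ := Triangle.coyoneda_exact₂ _ hT g (hom_push_eq_zero j hA _)
    exact ⟨φ, hφ.symm⟩

/-- two coreflections agree -/
theorem isIso_of_bijective {P Q K : DCoh.D X} (p : P ⟶ K) (q : Q ⟶ K) (α : P ⟶ Q) (hα : α ≫ q = p)
    (hP : IsZero ((DCoh.restrictD j).obj P)) (hQ : IsZero ((DCoh.restrictD j).obj Q))
    (bp : ∀ {A : DCoh.D X}, IsZero ((DCoh.restrictD j).obj A) → Function.Bijective fun φ : A ⟶ P => φ ≫ p)
    (bq : ∀ {A : DCoh.D X}, IsZero ((DCoh.restrictD j).obj A) → Function.Bijective fun φ : A ⟶ Q => φ ≫ q) :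
    IsIso α := by
  obtain ⟨β, hβ : β ≫ p = q⟩ := (bp hQ).2 q
  refine ⟨β, (bp hP).1 ?_, (bq hQ).1 ?_⟩
  · change (α ≫ β) ≫ p = 𝟙 P ≫ p
    rw [Category.assoc, hβ, hα, Category.id_comp]
  · change (β ≫ α) ≫ q = 𝟙 Q ≫ q
    rw [Category.assoc, hα, hβ, Category.id_comp]

/-- on objects vanishing on `U`, sections with support change nothing -/
theorem isIso_toId {K : DCoh.D X} (hK : IsZero ((DCoh.restrictD j).obj K)) :
    IsIso ((CxOX.RgammaZToId j).app K) :=
  isIso_of_bijective j ((CxOX.RgammaZToId j).app K) (𝟙 K) _ (Category.comp_id _) (isZero_restrict j K) hK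
    (fun hA => bijective j hA K) fun _ => ⟨fun a b h => by simpa using h, fun g => ⟨g, Category.comp_id g⟩⟩

/-- `RΓ_Z` vanishes exactly on direct images from `U` -/
theorem isZero_of_hom_eq_zero (K : DCoh.D X)
    (h : ∀ {A : DCoh.D X}, IsZero ((DCoh.restrictD j).obj A) → ∀ f : A ⟶ K, f = 0) :
    IsZero ((CxOX.RgammaZ j).obj K) := by
  rw [IsZero.iff_id_eq_zero]
  refine (bijective j (isZero_restrict j K) K).1 ?_
  exact (h (isZero_restrict j K) _).trans (h (isZero_restrict j K) _).symm

/-- `RΓ_Z` kills direct images from opens inside `U` -/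
theorem isZero_push {W : Scheme.{u}} (h : W ⟶ X) [IsOpenImmersion h] [DCoh.HasRpush h]
    (hW : h.opensRange ≤ j.opensRange) (M : DCoh.D W) :
    IsZero ((CxOX.RgammaZ j).obj ((DCoh.Rpush h).obj M)) :=
  isZero_of_hom_eq_zero j _ fun hA f => ((Cpt.restrictRpushAdj h).homEquiv _ _).symm.injective
    (IsZero.eq_of_src ((Gen.isZero_restrictD_iff h _).2 fun i _ hx hy =>
      (Gen.isZero_restrictD_iff j _).1 hA i hx (hW hy)) _ _)

/-- if `RΓ_Z K = 0` then `K` is the direct image of its restriction -/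
theorem exists_iso_of_isZero {K : DCoh.D X} (h : IsZero ((CxOX.RgammaZ j).obj K)) :
    Nonempty (K ≅ (DCoh.Rpush j).obj ((DCoh.restrictD j).obj K)) := by
  obtain ⟨b, c, hT⟩ := exists_triangle j K
  exact ⟨@asIso _ _ _ _ b ((Triangle.isZero₁_iff_isIso₂ _ hT).1 h)⟩

end Groth.L10.GammaZ
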