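import Groth.Agent.L10.GammaZ.OpenImm
import Groth.Agent.L29.DCoh.Gen.RpushTri
import Groth.Agent.L00.RpushComp

/-!
Direct image and sections with support.
-/

set_option autoImplicit false
set_option backward.defeqAttrib.useBackward true
set_option backward.isDefEq.respectTransparency false
set_option backward.isDefEq.respectTransparency.types false

universe u

open CategoryTheory CategoryTheory.Limits CategoryTheory.Pretriangulated AlgebraicGeometry

attribute [local instance] HasDerivedCategory.standard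

namespace Groth.L10.GammaZ

open Groth.L00 Groth.L29.DC

variable {X Y : Scheme.{u}} (f : X ⟶ Y) [DCoh.HasRpush f] (U : Y.Opens)

theorem isZero_restrict_Rpush (M : DCoh.D X) (h : IsZero ((DCoh.restrictD (f ⁻¹ᵁ U).ι).obj M)) :
    IsZero ((DCoh.restrictD U.ι).obj ((DCoh.Rpush f).obj M)) := by
  haveI := RpushQC.hasRpush (f ∣_ U)
  obtain ⟨e⟩ := RpushRes.nonempty_iso f U.ι (f ⁻¹ᵁ U).ι (f ∣_ U)
    (by rw [Scheme.Opens.opensRange_ι, Scheme.Opens.opensRange_ι]) (morphismRestrict_ι f U)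
  letI := Gen.commShiftRpush (f ∣_ U)
  haveI := Gen.isTriangulated_Rpush (f ∣_ U)
  exact ((DCoh.Rpush (f ∣_ U)).map_isZero h).of_iso (e.app M)

theorem rpushCongr {g h : X ⟶ Y} (e : g = h) [DCoh.HasRpush g] [DCoh.HasRpush h] :
    Nonempty (DCoh.Rpush g ≅ DCoh.Rpush h) := by
  subst e
  exact ⟨Iso.refl _⟩

/-- the image under `Rf_*` of a direct image from `f⁻¹U` is a direct image from `U` -/
theorem exists_push_iso [DCoh.HasRpush (f ⁻¹ᵁ U).ι] (M : DCoh.D (f ⁻¹ᵁ U : Scheme.{u})) :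
    ∃ N : DCoh.D (U : Scheme.{u}), Nonempty ((DCoh.Rpush f).obj ((DCoh.Rpush (f ⁻¹ᵁ U).ι).obj M) ≅
      (DCoh.Rpush U.ι).obj N) := by
  obtain ⟨a⟩ := Groth.L00.RpushComp.rpush_comp (f ⁻¹ᵁ U).ι f
  obtain ⟨b⟩ := Groth.L00.RpushComp.rpush_comp (f ∣_ U) U.ι
  obtain ⟨c⟩ := rpushCongr (morphismRestrict_ι f U).symm
  exact ⟨_, ⟨a.app M ≪≫ c.app M ≪≫ (b.app M).symm⟩⟩

/-- `Rf_*` of sections with support has the universal property of sections with support -/
theorem bijective_Rpush [CxOX.HasRgammaZ (f ⁻¹ᵁ U).ι] (K : DCoh.D X) {A : DCoh.D Y}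
    (hA : IsZero ((DCoh.restrictD U.ι).obj A)) :
    Function.Bijective fun φ : A ⟶ (DCoh.Rpush f).obj ((CxOX.RgammaZ (f ⁻¹ᵁ U).ι).obj K) =>
      φ ≫ (DCoh.Rpush f).map ((CxOX.RgammaZToId (f ⁻¹ᵁ U).ι).app K) := by
  obtain ⟨b, c, hT⟩ := exists_triangle (f ⁻¹ᵁ U).ι K
  letI := Gen.commShiftRpush f
  haveI := Gen.isTriangulated_Rpush f
  obtain ⟨N, ⟨e⟩⟩ := exists_push_iso f U ((DCoh.restrictD (f ⁻¹ᵁ U).ι).obj K)
  have hT' := (DCoh.Rpush f).map_distinguished _ hT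
  refine ⟨fun φ φ' h => sub_eq_zero.1 ?_, fun g => ?_⟩
  · obtain ⟨γ, hγ⟩ := Triangle.coyoneda_exact₂ _ (inv_rot_of_distTriang _ hT') (φ - φ') (by
      change (φ - φ') ≫ (DCoh.Rpush f).map ((CxOX.RgammaZToId (f ⁻¹ᵁ U).ι).app K) = 0
      rw [Preadditive.sub_comp, sub_eq_zero]
      exact h)
    have hγ0 : γ = 0 := (cancel_mono ((shiftFunctor (DCoh.D Y) (-1 : ℤ)).map e.hom)).1
      ((hom_push_shift_eq_zero U.ι hA _).trans zero_comp.symm)
    rw [hγ, hγ0]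
    exact zero_comp
  · obtain ⟨φ, hφ⟩ := Triangle.coyoneda_exact₂ _ hT' g
      ((cancel_mono e.hom).1 ((hom_push_eq_zero U.ι hA _).trans zero_comp.symm))
    exact ⟨φ, hφ.symm⟩

end Groth.L10.GammaZ
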