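import Groth.Agent.L10.GammaZ.Push

/-!
Restriction to an open and sections with support.
-/

set_option autoImplicit false
set_option backward.defeqAttrib.useBackward true
set_option backward.isDefEq.respectTransparency false
set_option backward.isDefEq.respectTransparency.types false

universe u

open CategoryTheory CategoryTheory.Limits CategoryTheory.Pretriangulated AlgebraicGeometry

attribute [local instance] HasDerivedCategory.standard

namespace Groth.L10.GammaZ

open Groth.L00 Groth.L29.DC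

variable {X Y : Scheme.{u}} (j : X ⟶ Y) [IsOpenImmersion j] (W : Y.Opens) [CxOX.HasRgammaZ W.ι]

/-- restricted sections with support have the universal property of sections with support -/
theorem bijective_restrict (K : DCoh.D Y) {A : DCoh.D X} (hA : IsZero ((DCoh.restrictD (j ⁻¹ᵁ W).ι).obj A)) :
    Function.Bijective fun φ : A ⟶ (DCoh.restrictD j).obj ((CxOX.RgammaZ W.ι).obj K) =>
      φ ≫ (DCoh.restrictD j).map ((CxOX.RgammaZToId W.ι).app K) := by
  haveI := RpushQC.hasRpush W.ι
  obtain ⟨b, c, hT⟩ := exists_triangle W.ι K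
  let g := (W.ι ∣_ j.opensRange) ≫ j.isoOpensRange.inv
  haveI := RpushQC.hasRpush g
  have w : g ≫ j = (W.ι ⁻¹ᵁ j.opensRange).ι ≫ W.ι := by
    rw [Category.assoc, Scheme.Hom.isoOpensRange_inv_comp, morphismRestrict_ι]
  obtain ⟨e₀⟩ := RpushRes.nonempty_iso W.ι j (W.ι ⁻¹ᵁ j.opensRange).ι g
    (by rw [Scheme.Opens.opensRange_ι]) w
  let e := e₀.app ((DCoh.restrictD W.ι).obj K)
  have hg : IsZero ((DCoh.restrictD g).obj A) := (Gen.isZero_restrictD_iff g A).2 fun i x hx hxg => by
    obtain ⟨y, rfl⟩ := hxg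
    refine (Gen.isZero_restrictD_iff _ A).1 hA i hx ⟨⟨g y, ?_⟩, rfl⟩
    change j (g y) ∈ W
    rw [← Scheme.Hom.comp_apply, w]
    exact ((W.ι ⁻¹ᵁ j.opensRange).ι y).2
  have hT' := (DCoh.restrictD j).map_distinguished _ hT
  refine ⟨fun φ φ' h => sub_eq_zero.1 ?_, fun t => ?_⟩
  · obtain ⟨γ, hγ⟩ := Triangle.coyoneda_exact₂ _ (inv_rot_of_distTriang _ hT') (φ - φ') (by
      change (φ - φ') ≫ (DCoh.restrictD j).map ((CxOX.RgammaZToId W.ι).app K) = 0
      rw [Preadditive.sub_comp, sub_eq_zero]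
      exact h)
    have hγ0 : γ = 0 := (cancel_mono ((shiftFunctor (DCoh.D X) (-1 : ℤ)).map e.hom)).1
      ((hom_push_shift_eq_zero g hg _).trans zero_comp.symm)
    rw [hγ, hγ0]
    exact zero_comp
  · obtain ⟨φ, hφ⟩ := Triangle.coyoneda_exact₂ _ hT' t
      ((cancel_mono e.hom).1 ((hom_push_eq_zero g hg _).trans zero_comp.symm))
    exact ⟨φ, hφ.symm⟩

end Groth.L10.GammaZ
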