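import Groth.Agent.L10.GammaZ.Push
import Groth.Agent.L29.BC.ProjQC
import Groth.Agent.L29.BC.LTExact
import Groth.Agent.L29.DCoh.TensorPerfect

/-!
Derived tensor product and sections with support.
-/

set_option autoImplicit false
set_option backward.defeqAttrib.useBackward true
set_option backward.isDefEq.respectTransparency false
set_option backward.isDefEq.respectTransparency.types false

universe u

open CategoryTheory CategoryTheory.Limits CategoryTheory.Pretriangulated AlgebraicGeometry

attribute [local instance] HasDerivedCategory.standard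

namespace Groth.L10.GammaZ

open Groth.L00 Groth.L29.DC

variable {X : Scheme.{u}} (E : CochainComplex X.Modules ℤ) [DCoh.HasLTensorCx E]

/-- tensoring keeps vanishing on an open -/
theorem isZero_restrict_LTensor {U : Scheme.{u}} (j : U ⟶ X) [IsOpenImmersion j] {A : DCoh.D X}
    (hA : IsZero ((DCoh.restrictD j).obj A)) :
    IsZero ((DCoh.restrictD j).obj ((DCoh.LTensorCx E).obj A)) := by
  obtain ⟨P, q, hP, -, hq, -⟩ := Groth.L00.KFlat.exists_resolution (DerivedCategory.Q.objPreimage A)
  haveI := (DerivedCategory.isIso_Q_map_iff_quasiIso _ q).2 hq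
  let eA : DCoh.toD X P ≅ A := asIso (DerivedCategory.Q.map q) ≪≫ DerivedCategory.Q.objObjPreimageIso A
  obtain ⟨eT⟩ := nonempty_LTensorCx_iso E P hP
  let P' := ((Scheme.Modules.restrictFunctor j).mapHomologicalComplex (ComplexShape.up ℤ)).obj P
  let E' := ((Scheme.Modules.restrictFunctor j).mapHomologicalComplex (ComplexShape.up ℤ)).obj E
  have hac : ∀ i, IsZero (P'.homology i) := fun i =>
    ((DerivedCategory.homologyFunctor U.Modules i).map_isZero hA).of_iso
      (((DerivedCategory.homologyFunctorFactors U.Modules i).app P').symm ≪≫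
        (DerivedCategory.homologyFunctor U.Modules i).mapIso
          (((Scheme.Modules.restrictFunctor j).mapDerivedCategoryFactors.app P).symm ≪≫
            (DCoh.restrictD j).mapIso eA))
  refine Gen.isZero_of_hd fun i => ?_
  refine (Groth.L00.KFlat.acyclic_tensor P' (isKFlat_restrict j hP) hac E' i).of_iso
    ((DerivedCategory.homologyFunctor U.Modules i).mapIso ((DCoh.restrictD j).mapIso
        ((DCoh.LTensorCx E).mapIso eA.symm ≪≫ eT) ≪≫
        (Scheme.Modules.restrictFunctor j).mapDerivedCategoryFactors.app _ ≪≫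
        DerivedCategory.Q.mapIso (restrictTensorCxIso j P E).symm) ≪≫
      (DerivedCategory.homologyFunctorFactors U.Modules i).app _ ≪≫
      (HomologicalComplex.homologyFunctor _ _ i).mapIso (Groth.L00.KFlat.commIso E' P'))

/-- tensoring with a quasi-coherent complex keeps the universal property of sections with support -/
theorem bijective_LTensor [CompactSpace X] (U : X.Opens) [CxOX.HasRgammaZ U.ι] [QuasiCompact U.ι]
    [QuasiSeparated U.ι] (hE : DCoh.IsQCohD (DCoh.toD X E)) (K : DCoh.D X) (hK : DCoh.IsQCohD K)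
    {A : DCoh.D X} (hA : IsZero ((DCoh.restrictD U.ι).obj A)) :
    Function.Bijective fun φ : A ⟶ (DCoh.LTensorCx E).obj ((CxOX.RgammaZ U.ι).obj K) =>
      φ ≫ (DCoh.LTensorCx E).map ((CxOX.RgammaZToId U.ι).app K) := by
  haveI := RpushQC.hasRpush U.ι
  haveI := Groth.L00.KFlat.hasLpull U.ι
  obtain ⟨b, c, hT⟩ := exists_triangle U.ι K
  let M := DerivedCategory.Q.objPreimage ((DCoh.Lpull U.ι).obj (DCoh.toD X E))
  haveI : DCoh.HasLTensorCx M := Groth.L00.KFlat.hasLTensorCx M
  have hz : ∀ N : DCoh.D (U : Scheme.{u}), DCoh.IsQCohD N →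
      ∀ φ : A ⟶ (DCoh.LTensorCx E).obj ((DCoh.Rpush U.ι).obj N), φ = 0 := fun N hN φ => by
    obtain ⟨e⟩ := Groth.L29.BC.ProjQC.nonempty_projection U.ι N hN E hE M
      ⟨DerivedCategory.Q.objObjPreimageIso _⟩
    exact (cancel_mono e.hom).1 ((hom_push_eq_zero U.ι hA _).trans zero_comp.symm)
  have hN := isQCohD_restrictD U.ι hK
  refine ⟨fun φ φ' h => sub_eq_zero.1 ?_, fun g => ?_⟩
  · letI := Gen.commShiftRpush U.ι
    obtain ⟨γ, hγ⟩ := Groth.L29.BC.LTExact.exact₂ E _ (inv_rot_of_distTriang _ hT) (φ - φ') (by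
      change (φ - φ') ≫ (DCoh.LTensorCx E).map ((CxOX.RgammaZToId U.ι).app K) = 0
      rw [Preadditive.sub_comp, sub_eq_zero]
      exact h)
    have hγ0 : γ = 0 := (cancel_mono ((DCoh.LTensorCx E).map
        (((DCoh.Rpush U.ι).commShiftIso (-1 : ℤ)).app ((DCoh.restrictD U.ι).obj K)).inv)).1
      ((hz _ (Gen.isQCohD_shift hN (-1)) _).trans zero_comp.symm)
    rw [hγ, hγ0]
    exact zero_comp
  · obtain ⟨φ, hφ⟩ := Groth.L29.BC.LTExact.exact₂ E _ hT g (hz _ hN _)
    exact ⟨φ, hφ.symm⟩

end Groth.L10.GammaZ
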