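import Groth.Agent.L10.GammaZ.Basic

/-!
Sections with support vanish on the open, termwise.
-/

set_option autoImplicit false
set_option backward.defeqAttrib.useBackward true
set_option backward.isDefEq.respectTransparency false
set_option backward.isDefEq.respectTransparency.types false

universe u

open CategoryTheory CategoryTheory.Limits AlgebraicGeometry

attribute [local instance] HasDerivedCategory.standard

namespace Groth.L10.GammaZ

variable {X U : Scheme.{u}} (j : U ⟶ X) [IsOpenImmersion j]

theorem isZero_res_gCx (I : CochainComplex X.Modules ℤ) : IsZero (DerivedCategory.Q.obj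
    (((Scheme.Modules.restrictFunctor j).mapHomologicalComplex (ComplexShape.up ℤ)).obj ((gCx j).obj I))) := by
  refine DerivedCategory.Q.map_isZero ?_
  rw [IsZero.iff_id_eq_zero]
  refine HomologicalComplex.hom_ext _ _ fun n => IsZero.eq_of_src ?_ _ _
  let η := (Scheme.Modules.restrictAdjunction j).unit.app (I.X n)
  have h := congrArg (fun t => (Scheme.Modules.restrictFunctor j).map t ≫
    (Scheme.Modules.restrictAdjunction j).counit.app _) (kernel.condition η)
  simp only [Functor.map_zero, zero_comp, Functor.map_comp, Category.assoc] at h
  rw [show (Scheme.Modules.restrictFunctor j).map η ≫ (Scheme.Modules.restrictAdjunction j).counit.app _ = 𝟙 _ from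
    (Scheme.Modules.restrictAdjunction j).left_triangle_components (I.X n), Category.comp_id] at h
  exact IsZero.of_mono_eq_zero _ h

end Groth.L10.GammaZ
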